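import Groth.Agent.GmDual.K191.UnipFin
import Groth.Agent.TateLoc.K59.DevTor
import Groth.Agent.S4130

/-!
# Groups with representable dual sheaf are almost tori
-/

set_option autoImplicit false
universe u
open CategoryTheory CategoryTheory.Limits MonoidalCategory CartesianMonoidalCategory MonObj AlgebraicGeometry
open CGrpSh Opposite TensorProduct

namespace K191.AlmostTorus

open K59.DevAbs K59.DevRep K59.DevFin K59.DevMain K59.DevTor Groth.Agent.Books.AffBridge Groth.Agent.Books.AffBridge2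

variable {k : Type u} [Field k]

/-- An extension of a finite group by an almost torus is an almost torus. -/
theorem at_ext {G M E : BigSite.Ab Scheme.fppfPrecoverage (Spec (CommRingCat.of k))} (i : M ⟶ G) (p : G ⟶ E)
    (w : i ≫ p = 0) (hs : (ShortComplex.mk i p w).ShortExact) (hG : Rep G) (hE : K59.DevFin.Fin (k := k) E)
    (hM : AT (Tor (k := k)) (K59.DevFin.Fin (k := k)) M) : AT (Tor (k := k)) (K59.DevFin.Fin (k := k)) G := by
  obtain ⟨A, q, hq, hA, hT⟩ := hM
  have hi : Mono i := hs.mono_f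
  have hMr : Rep M := rep_iso (isoKernel hs).symm (rep_kernel p hG (fin_rep hE))
  have hj : Mono (kernel.ι q ≫ i) := mono_comp _ _
  obtain ⟨a, b, w', hs', -, -⟩ := ses_coker_comp (kernel.ι q) i
  have hker : Rep (kernel q) := rep_kernel q hMr (fin_rep hA)
  refine ⟨cokernel (kernel.ι q ≫ i), cokernel.π _, inferInstance, ?_, ?_⟩
  · refine fin_ext a b w' hs' (rep_cokernel _ hker hG) ?_ ?_
    · exact fin_iso (isoCokernel (ses_kernel q)).symm hA
    · exact fin_iso (isoCokernel hs).symm hE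
  · exact tor_iso (isoKernel (ses_cokernel (kernel.ι q ≫ i))) hT

/-- If the sheaf of points is an almost torus then the group is an almost torus. -/
theorem of_at (G : Over (Spec (CommRingCat.of k))) [GrpObj G] [IsCommMonObj G] [IsAffine G.left]
    [LocallyOfFiniteType G.hom] (h : AT (Tor (k := k)) (K59.DevFin.Fin (k := k)) (pts Scheme.fppfPrecoverage G)) :
    ∃ (T Q : Over (Spec (CommRingCat.of k))) (_ : GrpObj T) (_ : GrpObj Q) (j : T ⟶ G) (q : G ⟶ Q)
      (_ : IsMonHom j) (_ : IsMonHom q), Mono j ∧ Red.IsTorus T ∧ AlgGrp.IsKernel j q ∧ Flat q.left ∧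
        Surjective q.left ∧ IsFinite Q.hom := by
  obtain ⟨A, q, hq, hA, hT⟩ := h
  obtain ⟨Q', a1, a2, a3, ⟨eA⟩⟩ := hA
  have a4 : IsAffine Q'.left := isAffine_of_isAffineHom Q'.hom
  obtain ⟨T', t1, t2, t3, t4, t5, ⟨eT⟩⟩ := hT
  obtain ⟨i', h1, q', h2, w', h3, -⟩ := exists_seq (kernel.ι q) q (kernel.condition q) (ses_kernel q) eT (Iso.refl _) eA
  have h4 := isKernel_of_shortExact _ _ _ h3
  simp only [K731.Full.hom_ptsMap] at h4
  have hm : Mono (ptsMap Scheme.fppfPrecoverage i') := h3.mono_f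
  have h5 := K59.DevRep.mono_of_mono (ptsMap Scheme.fppfPrecoverage i')
  rw [K731.Full.hom_ptsMap] at h5
  exact ⟨T', Q', t1, a1, i', q', h1, h2, h5, t5, h4.1, h4.2.1, h4.2.2, a3⟩

theorem main (G : Over (Spec (CommRingCat.of k))) [GrpObj G] [IsCommMonObj G] [IsAffine G.left] [LocallyOfFiniteType G.hom]
    (D : Over (Spec (CommRingCat.of k))) [GrpObj D] [IsCommMonObj D]
    (e : CGrpSh.pts Scheme.fppfPrecoverage D ≅ CGrpSh2.dualSh Scheme.fppfPrecoverage (CGrpSh.pts Scheme.fppfPrecoverage G)) :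
    ∃ (T Q : Over (Spec (CommRingCat.of k))) (_ : GrpObj T) (_ : GrpObj Q) (j : T ⟶ G) (q : G ⟶ Q)
      (_ : IsMonHom j) (_ : IsMonHom q), Mono j ∧ Red.IsTorus T ∧ AlgGrp.IsKernel j q ∧ Flat q.left ∧
        Surjective q.left ∧ IsFinite Q.hom := by
  obtain ⟨A, _, _, _, e', he', hft⟩ := K620.HopfSeq.exists_model G
  have hA := hft inferInstance
  have hc : IsCommMonObj (SpecOver k A) := K620.HopfSeq.isCommMonObj_of_iso e'
  obtain ⟨J, hJ, hM, -, B, _, _, φ, hφ, hJB, hB⟩ := Groth.Agent.S4130.result k A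
  have hBc : Coalgebra.IsCocomm k B := K620.HopfSeq.isCocomm_of_injective φ hφ
  have hinv : IsMonHom e'.inv := inferInstance
  have hφm : IsMonHom (specMap k (φ : B →ₐ[k] A)) := isMonHom_specMap k φ
  have hu : IsMonHom (e'.hom ≫ specMap k (φ : B →ₐ[k] A)) := inferInstance
  -- `B` is finite dimensional
  have hfin : Module.Finite k B := K191.UnipFin.finite_of_rep e'.inv (e'.hom ≫ specMap k (φ : B →ₐ[k] A))
    (φ : B →ₐ[k] A) (by rw [Iso.inv_hom_id_assoc]) hφ hB e
  have hBft : Algebra.FiniteType k B := K620.HopfSeq.finiteType_of_injective φ hφ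
  have hBcm : IsCommMonObj (SpecOver k B) := inferInstance
  have h1 : IsMonHom (specMap k (Ideal.Quotient.mkₐ k J)) :=
    isMonHom_specMap k (Bialgebra.Quotient.mkBialgHom (R := k) J)
  have hmono : Mono (specMap k (Ideal.Quotient.mkₐ k J)) := by
    have : IsClosedImmersion (specMap k (Ideal.Quotient.mkₐ k J)).left :=
      (isClosedImmersion_specMap_iff k _).2 (Ideal.Quotient.mkₐ_surjective k _)
    have h3 : Mono ((Over.forget _).map (specMap k (Ideal.Quotient.mkₐ k J))) := inferInstanceAs (Mono (specMap k _).left)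
    exact (Over.forget _).mono_of_mono_map h3
  have h3 : IsCommMonObj (SpecOver k (A ⧸ J)) :=
    Groth.Agent.Sga3.H830.CommAux.isCommMonObj_of_mono (specMap k (Ideal.Quotient.mkₐ k J))
  have hker := isKernel_specMap k (φ : B →ₐ[k] A) J hJB
  have hses := K620.HopfSeq.shortExact_spec φ hφ J hJB (K620.HopfSeq.isKernel_w hker)
  have hqc : Coalgebra.IsCocomm k (A ⧸ J) := K620.HopfSeq.isCocomm_of_isCommMonObj (A ⧸ J)
  have hqft : Algebra.FiniteType k (A ⧸ J) := inferInstance
  have hAT : AT (Tor (k := k)) (K59.DevFin.Fin (k := k)) (pts Scheme.fppfPrecoverage (SpecOver k (A ⧸ J))) :=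
    at_of_mult (A ⧸ J) hM
  have hlft : LocallyOfFiniteType (SpecOver k A).hom := (locallyOfFiniteType_specOver_iff k A).2 hA
  have hfinB : K59.DevFin.Fin (k := k) (pts Scheme.fppfPrecoverage (SpecOver k B)) := by
    refine ⟨SpecOver k B, inferInstance, inferInstance, ?_, ⟨Iso.refl _⟩⟩
    change IsFinite (Spec.map _)
    rw [IsFinite.SpecMap_iff]
    exact RingHom.finite_algebraMap.2 hfin
  have hATA := at_ext _ _ _ hses (rep_pts (SpecOver k A)) hfinB hAT
  have hiso : IsIso (CGrpSh.ptsMap Scheme.fppfPrecoverage e'.inv) := isIso_ptsMap e'.inv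
  apply of_at G
  obtain ⟨X, q, hq, hX, hT⟩ := hATA
  exact ⟨X, inv (CGrpSh.ptsMap Scheme.fppfPrecoverage e'.inv) ≫ q, epi_comp _ _, hX,
    tor_iso (kerIso (asIso (CGrpSh.ptsMap Scheme.fppfPrecoverage e'.inv)) q) hT⟩

end K191.AlmostTorus
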