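import Groth.Agent.Books.ComodSocle
import Groth.Agent.Books.ComodBasic
import Groth.Agent.Books.AffBridge2
import Mathlib.RingTheory.Coalgebra.Convolution
import Mathlib.RingTheory.Bialgebra.Convolution
import Mathlib.RingTheory.Spectrum.Prime.Topology

/-!
# The dual ring of a cocommutative bialgebra and its finite quotients

`R k B = Hom_k(B, k)` with convolution; for a finite dimensional subcoalgebra `C` the ideal `idl C` of functionals
vanishing on `C`; the canonical element `can C` of `(R k B ⧸ idl C) ⊗ B`; for `B` unipotent the quotient ring has exactly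
one prime; compatible ring homomorphisms to the quotients lift to `R k B`.
-/

set_option autoImplicit false
set_option linter.unusedSectionVars false
universe u
open TensorProduct WithConv
open Groth.Agent.Books

noncomputable section

namespace K191.DualRing

variable {k : Type u} [Field k] {B : Type u} [CommRing B] [Bialgebra k B] [Coalgebra.IsCocomm k B]

variable (k B) in
/-- The dual ring. -/
def R : Type u := WithConv (B →ₗ[k] k)

instance : CommRing (R k B) := inferInstanceAs (CommRing (WithConv (B →ₗ[k] k)))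

instance : Algebra k (R k B) := inferInstanceAs (Algebra k (WithConv (B →ₗ[k] k)))

/-- the functional of an element -/
def ap : R k B →ₗ[k] (B →ₗ[k] k) where
  toFun F := WithConv.ofConv F
  map_add' _ _ := rfl
  map_smul' _ _ := rfl

/-- the element of a functional -/
def cv (f : B →ₗ[k] k) : R k B := WithConv.toConv f

@[simp] theorem ap_cv (f : B →ₗ[k] k) : ap (cv f : R k B) = f := rfl

theorem ap_injective : Function.Injective (ap : R k B → B →ₗ[k] k) := fun _ _ h => WithConv.ext h

/-- Subcoalgebras. -/
def IsSubC (C : Submodule k B) : Prop :=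
  ∀ c ∈ C, CoalgebraStruct.comul (R := k) c ∈ LinearMap.range (TensorProduct.mapIncl C C)

theorem ap_mul (F G : R k B) (b : B) :
    ap (F * G) b = LinearMap.mul' k k (TensorProduct.map (ap F) (ap G) (CoalgebraStruct.comul (R := k) b)) := rfl

theorem ap_one (b : B) : ap (1 : R k B) b = Coalgebra.counit (R := k) b := rfl

/-- The ideal of functionals vanishing on a subcoalgebra. -/
def idl (C : Submodule k B) (hC : IsSubC C) : Ideal (R k B) where
  carrier := {F | ∀ c ∈ C, ap F c = 0}
  zero_mem' := fun _ _ => rfl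
  add_mem' {F G} hF hG c hc := by
    rw [map_add, LinearMap.add_apply, hF c hc, hG c hc, add_zero]
  smul_mem' := fun F G hG c hc => by
    change ap (F * G) c = 0
    rw [ap_mul]
    obtain ⟨y, hy⟩ := hC c hc
    rw [← hy]
    clear hy
    induction y with
    | zero => simp
    | add x y hx hy => rw [map_add, map_add, map_add, hx, hy, add_zero]
    | tmul x y =>
      rw [TensorProduct.mapIncl, TensorProduct.map_tmul, TensorProduct.map_tmul]
      change ap F (x : B) * ap G (y : B) = 0
      rw [hG y y.2, mul_zero]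

theorem mem_idl {C : Submodule k B} {hC : IsSubC C} {F : R k B} : F ∈ idl C hC ↔ ∀ c ∈ C, ap F c = 0 := Iff.rfl

/-- finite dimensional subcoalgebras containing `1` -/
structure FC (k : Type u) (B : Type u) [Field k] [CommRing B] [Bialgebra k B] where
  C : Submodule k B
  sub : IsSubC C
  fin : Module.Finite k C
  one : (1 : B) ∈ C

instance (C : FC k B) : Module.Finite k C.C := C.fin

/-- The quotient ring `C^*`. -/
abbrev Q (C : FC k B) : Type u := R k B ⧸ idl C.C C.sub

/-- the quotient map -/
abbrev qm (C : FC k B) : R k B →ₐ[k] Q C := Ideal.Quotient.mkₐ k (idl C.C C.sub)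

theorem qm_surjective (C : FC k B) : Function.Surjective (qm C) := Ideal.Quotient.mkₐ_surjective _ _

section exists_

theorem exists_retract (C : Submodule k B) : ∃ π : B →ₗ[k] C, ∀ c : C, π c = c := by
  obtain ⟨π, hπ⟩ := LinearMap.exists_leftInverse_of_injective C.subtype (Submodule.ker_subtype C)
  exact ⟨π, fun c => LinearMap.congr_fun hπ c⟩

theorem isSubC_of_isSubcomod {C : Submodule k B} (h : HopfRep.IsSubcomod (k := k) (A := B) C) : IsSubC C := by
  obtain ⟨π, hπ⟩ := exists_retract C
  intro c hc
  obtain ⟨y, hy⟩ := h c hc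
  have h1 : TensorProduct.map (C.subtype ∘ₗ π) LinearMap.id (CoalgebraStruct.comul (R := k) c) =
      CoalgebraStruct.comul (R := k) c := by
    change TensorProduct.map (C.subtype ∘ₗ π) LinearMap.id (HopfRep.Comod.coact (k := k) (A := B) c) =
      HopfRep.Comod.coact (k := k) (A := B) c
    rw [← hy]
    clear hy
    induction y with
    | zero => simp
    | add x y hx hy => rw [map_add, map_add, hx, hy]
    | tmul x y => simp [hπ]
  have h2 : TensorProduct.map LinearMap.id (C.subtype ∘ₗ π) (CoalgebraStruct.comul (R := k) c) =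
      CoalgebraStruct.comul (R := k) c := by
    have h3 := Coalgebra.comm_comul k c
    rw [← h3]
    conv_rhs => rw [← h1]
    generalize CoalgebraStruct.comul (R := k) c = z
    induction z with
    | zero => simp
    | add x y hx hy => simp only [map_add, hx, hy]
    | tmul x y => simp
  refine ⟨TensorProduct.map π π (CoalgebraStruct.comul (R := k) c), ?_⟩
  conv_rhs => rw [← h1, ← h2]
  generalize CoalgebraStruct.comul (R := k) c = z
  induction z with
  | zero => simp
  | add x y hx hy => simp only [map_add, hx, hy]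
  | tmul x y => simp [TensorProduct.mapIncl]

/-- Finite subsets lie in finite dimensional subcoalgebras containing `1`. -/
theorem exists_FC (s : Finset B) : ∃ C : FC k B, ∀ b ∈ s, b ∈ C.C := by
  classical
  have : Module.Finite k (Submodule.span k (insert (1 : B) (s : Set B))) :=
    FiniteDimensional.span_of_finite k ((s.finite_toSet).insert 1)
  obtain ⟨W, hW, hf, hle⟩ := ComodBasic.exists_finite_isSubcomod_ge (k := k) (A := B)
    (Submodule.span k (insert (1 : B) (s : Set B)))
  exact ⟨⟨W, isSubC_of_isSubcomod hW, hf, hle (Submodule.subset_span (Set.mem_insert _ _))⟩,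
    fun b hb => hle (Submodule.subset_span (Set.mem_insert_of_mem _ hb))⟩

/-- directedness -/
theorem exists_ge (C D : FC k B) : ∃ E : FC k B, C.C ≤ E.C ∧ D.C ≤ E.C := by
  obtain ⟨s, hs⟩ := (Module.Finite.iff_fg (N := C.C)).1 inferInstance
  obtain ⟨t, ht⟩ := (Module.Finite.iff_fg (N := D.C)).1 inferInstance
  classical
  obtain ⟨E, hE⟩ := exists_FC (k := k) (s ∪ t)
  refine ⟨E, ?_, ?_⟩
  · rw [← hs, Submodule.span_le]
    exact fun b hb => hE b (Finset.mem_union_left _ hb)
  · rw [← ht, Submodule.span_le]
    exact fun b hb => hE b (Finset.mem_union_right _ hb)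

variable (k) in
/-- A finite dimensional subcoalgebra containing a given element. -/
def FC.of (b : B) : FC k B := (exists_FC (k := k) {b}).choose

theorem FC.mem_of (b : B) : b ∈ (FC.of k b).C := (exists_FC (k := k) {b}).choose_spec b (Finset.mem_singleton_self b)

end exists_

/-- transition maps -/
def tr {C D : FC k B} (h : C.C ≤ D.C) : Q D →ₐ[k] Q C :=
  Ideal.Quotient.factorₐ k (I := idl D.C D.sub) (J := idl C.C C.sub) (fun _ hF c hc => hF c (h hc))

@[simp] theorem tr_qm {C D : FC k B} (h : C.C ≤ D.C) (F : R k B) : tr h (qm D F) = qm C F := rfl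

/-! ### The limit property -/

/-- Evaluation of an element of the quotient at an element of the subcoalgebra. -/
def evQ (C : FC k B) (c : C.C) : Q C →ₗ[k] k :=
  Submodule.liftQ ((idl C.C C.sub).restrictScalars k)
    ((LinearMap.applyₗ (c : B)).comp ap) (fun _ hF => hF c c.2)

@[simp] theorem evQ_qm (C : FC k B) (c : C.C) (F : R k B) : evQ C c (qm C F) = ap F c := rfl

theorem evQ_tr {C D : FC k B} (h : C.C ≤ D.C) (c : C.C) (x : Q D) : evQ C c (tr h x) = evQ D ⟨c, h c.2⟩ x := by
  obtain ⟨F, rfl⟩ := qm_surjective D x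
  rfl

theorem ext_evQ {C : FC k B} {x y : Q C} (h : ∀ c, evQ C c x = evQ C c y) : x = y := by
  obtain ⟨F, rfl⟩ := qm_surjective C x
  obtain ⟨G, rfl⟩ := qm_surjective C y
  change Ideal.Quotient.mk _ F = Ideal.Quotient.mk _ G
  rw [Ideal.Quotient.eq]
  intro c hc
  rw [map_sub, LinearMap.sub_apply, sub_eq_zero]
  exact h ⟨c, hc⟩

/-- Compatible ring homomorphisms into the quotients lift. -/
theorem exists_lift {Γ : Type u} [CommRing Γ] [Algebra k Γ] (ψ : ∀ C : FC k B, Γ →ₐ[k] Q C)
    (hψ : ∀ (C D : FC k B) (h : C.C ≤ D.C) (x : Γ), tr h (ψ D x) = ψ C x) :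
    ∃ Ψ : Γ →ₐ[k] R k B, ∀ C x, qm C (Ψ x) = ψ C x := by
  classical
  have key : ∀ (C D : FC k B) (b : B) (hC : b ∈ C.C) (hD : b ∈ D.C) (x : Γ),
      evQ C ⟨b, hC⟩ (ψ C x) = evQ D ⟨b, hD⟩ (ψ D x) := by
    intro C D b hC hD x
    obtain ⟨E, h1, h2⟩ := exists_ge C D
    rw [← hψ C E h1, ← hψ D E h2, evQ_tr, evQ_tr]
  let f : Γ → R k B := fun x => cv
    { toFun := fun b => evQ (FC.of k b) ⟨b, FC.mem_of b⟩ (ψ (FC.of k b) x)
      map_add' := fun a b => by
        obtain ⟨E, hE⟩ := exists_FC (k := k) ({a, b} : Finset B)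
        have ha : a ∈ E.C := hE a (by simp)
        have hb : b ∈ E.C := hE b (by simp)
        rw [key _ E (a + b) _ (E.C.add_mem ha hb), key _ E a _ ha, key _ E b _ hb]
        obtain ⟨F, hF⟩ := qm_surjective E (ψ E x)
        rw [← hF]
        exact map_add (ap F) a b
      map_smul' := fun r a => by
        rw [key _ (FC.of k a) (r • a) _ ((FC.of k a).C.smul_mem r (FC.mem_of a))]
        obtain ⟨F, hF⟩ := qm_surjective (FC.of k a) (ψ (FC.of k a) x)
        rw [← hF]
        exact map_smul (ap F) r a }
  have hf : ∀ (C : FC k B) (x : Γ), qm C (f x) = ψ C x := by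
    intro C x
    apply ext_evQ
    intro c
    exact key _ C c _ c.2 x
  have hinj : ∀ F G : R k B, (∀ C : FC k B, qm C F = qm C G) → F = G := by
    intro F G h
    apply ap_injective
    ext b
    have h1 := h (FC.of k b)
    exact congrArg (evQ (FC.of k b) ⟨b, FC.mem_of b⟩) h1
  refine ⟨{ toFun := f
            map_one' := hinj _ _ fun C => by rw [hf, map_one, map_one]
            map_mul' := fun x y => hinj _ _ fun C => by rw [hf, map_mul, map_mul, hf, hf]
            map_zero' := hinj _ _ fun C => by rw [hf, map_zero, map_zero]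
            map_add' := fun x y => hinj _ _ fun C => by rw [hf, map_add, map_add, hf, hf]
            commutes' := fun r => hinj _ _ fun C => by
              rw [hf, AlgHom.commutes, AlgHom.commutes] }, hf⟩

/-! ### The canonical element -/

section can

variable (C : FC k B)

/-- basis of the subcoalgebra -/
abbrev bs := Module.Free.chooseBasis k C.C

/-- index type -/
abbrev ix := Module.Free.ChooseBasisIndex k C.C

/-- dual functionals, extended to `B` -/
def ds (i : ix C) : R k B := cv ((bs C).coord i ∘ₗ (exists_retract C.C).choose)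

theorem ds_apply (i : ix C) (c : C.C) : ap (ds C i) (c : B) = (bs C).repr c i := by
  change (bs C).repr ((exists_retract C.C).choose c) i = _
  rw [(exists_retract C.C).choose_spec]

theorem sum_ds (c : C.C) : ∑ i, ap (ds C i) (c : B) • ((bs C i : C.C) : B) = c := by
  have h := congrArg (fun z : C.C => (z : B)) ((bs C).sum_repr c)
  simp only [Submodule.coe_sum, Submodule.coe_smul] at h
  refine Eq.trans (Finset.sum_congr rfl fun i _ => ?_) h
  rw [ds_apply]

/-- expansion of a functional modulo the ideal -/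
theorem mk_eq_sum (F : R k B) : qm C F = ∑ i, ap F ((bs C i : C.C) : B) • qm C (ds C i) := by
  apply ext_evQ
  intro c
  rw [evQ_qm, map_sum]
  simp only [map_smul, evQ_qm, smul_eq_mul]
  have h := congrArg (ap F) (sum_ds C c)
  rw [← h, map_sum]
  refine Finset.sum_congr rfl fun i _ => ?_
  rw [map_smul, smul_eq_mul, mul_comm]

/-- The canonical element. -/
def can : Q C ⊗[k] B := ∑ i, qm C (ds C i) ⊗ₜ[k] ((bs C i : C.C) : B)

theorem map_tr_can {C D : FC k B} (h : C.C ≤ D.C) :
    Algebra.TensorProduct.map (tr h) (AlgHom.id k B) (can D) = can C := by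
  rw [can, map_sum]
  simp only [Algebra.TensorProduct.map_tmul, tr_qm, AlgHom.coe_id, id_eq]
  have h1 : ∀ j, qm C (ds D j) ⊗ₜ[k] ((bs D j : D.C) : B) =
      ∑ i, qm C (ds C i) ⊗ₜ[k] (ap (ds D j) ((bs C i : C.C) : B) • ((bs D j : D.C) : B)) := by
    intro j
    rw [mk_eq_sum C (ds D j), TensorProduct.sum_tmul]
    refine Finset.sum_congr rfl fun i _ => ?_
    rw [TensorProduct.smul_tmul]
  rw [Finset.sum_congr rfl fun j _ => h1 j, Finset.sum_comm, can]
  refine Finset.sum_congr rfl fun i _ => ?_
  rw [← TensorProduct.tmul_sum]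
  congr 1
  exact sum_ds D ⟨(bs C i : C.C), h (bs C i).2⟩

/-- Pairing with an element of the subcoalgebra. -/
theorem evQ_can {A : Type u} [CommRing A] [Algebra k A] (φ : B →ₐ[k] A) (c : C.C) :
    TensorProduct.lid k A ((evQ C c).rTensor A (Algebra.TensorProduct.map (AlgHom.id k (Q C)) φ (can C))) = φ c := by
  rw [can, map_sum, map_sum, map_sum]
  have h := congrArg φ (sum_ds C c)
  rw [map_sum] at h
  rw [← h]
  refine Finset.sum_congr rfl fun i _ => ?_
  rw [Algebra.TensorProduct.map_tmul, LinearMap.rTensor_tmul, TensorProduct.lid_tmul, map_smul]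
  rfl

variable {D : Type u} [CommRing D] [Algebra k D]

/-- values of the canonical element at points -/
def val (h : Q C →ₐ[k] D) (f : B →ₐ[k] D) : Q C ⊗[k] B →ₐ[k] D :=
  Algebra.TensorProduct.lift h f (fun _ _ => Commute.all _ _)

theorem val_can (h : Q C →ₐ[k] D) (f : B →ₐ[k] D) :
    val C h f (can C) = ∑ i, h (qm C (ds C i)) * f ((bs C i : C.C) : B) := by
  rw [can, map_sum]
  exact Finset.sum_congr rfl fun i _ => by simp [val]

theorem comul_bs (f f' : B →ₐ[k] D) (c : C.C) :
    (toConv f * toConv f') (c : B) =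
      ∑ j, ∑ l, algebraMap k D (ap (ds C j * ds C l) (c : B)) * (f ((bs C j : C.C) : B) * f' ((bs C l : C.C) : B)) := by
  rw [AlgHom.convMul_apply]
  simp only [ap_mul]
  obtain ⟨y, hy⟩ := C.sub c c.2
  rw [← hy]
  clear hy
  induction y with
  | zero => simp
  | add x y hx hy =>
    simp only [map_add, hx, hy, add_mul, Finset.sum_add_distrib]
  | tmul x y =>
    rw [TensorProduct.mapIncl, TensorProduct.map_tmul, Algebra.TensorProduct.lift_tmul]
    change f (x : B) * f' (y : B) = _
    have h1 := congrArg f (sum_ds C x)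
    have h2 := congrArg f' (sum_ds C y)
    rw [map_sum] at h1 h2
    rw [← h1, ← h2, Finset.sum_mul_sum]
    refine Finset.sum_congr rfl fun j _ => Finset.sum_congr rfl fun l _ => ?_
    rw [TensorProduct.map_tmul, map_smul, map_smul, LinearMap.mul'_apply, map_mul, Algebra.smul_def, Algebra.smul_def]
    change _ = algebraMap k D (ap (ds C j) (x : B)) * algebraMap k D (ap (ds C l) (y : B)) * _
    ring

/-- The canonical element is multiplicative. -/
theorem val_can_mul (h : Q C →ₐ[k] D) (f f' : B →ₐ[k] D) :
    val C h (toConv f * toConv f').ofConv (can C) = val C h f (can C) * val C h f' (can C) := by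
  rw [val_can, val_can, val_can, Finset.sum_mul_sum]
  have h1 : ∀ i, (toConv f * toConv f').ofConv ((bs C i : C.C) : B) =
      ∑ j, ∑ l, algebraMap k D (ap (ds C j * ds C l) ((bs C i : C.C) : B)) *
        (f ((bs C j : C.C) : B) * f' ((bs C l : C.C) : B)) := fun i => comul_bs C f f' (bs C i)
  rw [Finset.sum_congr rfl fun i _ => congrArg (fun z => h (qm C (ds C i)) * z) (h1 i)]
  simp only [Finset.mul_sum]
  rw [Finset.sum_comm]
  refine Finset.sum_congr rfl fun j _ => ?_
  rw [Finset.sum_comm]
  refine Finset.sum_congr rfl fun l _ => ?_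
  have h2 : h (qm C (ds C j)) * h (qm C (ds C l)) =
      ∑ i, algebraMap k D (ap (ds C j * ds C l) ((bs C i : C.C) : B)) * h (qm C (ds C i)) := by
    rw [← map_mul, ← map_mul, mk_eq_sum C (ds C j * ds C l), map_sum]
    refine Finset.sum_congr rfl fun i _ => ?_
    rw [map_smul, Algebra.smul_def]
  have h3 : h (qm C (ds C j)) * f ((bs C j : C.C) : B) *
      (h (qm C (ds C l)) * f' ((bs C l : C.C) : B)) =
      (h (qm C (ds C j)) * h (qm C (ds C l))) *
        (f ((bs C j : C.C) : B) * f' ((bs C l : C.C) : B)) := by ring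
  rw [h3, h2, Finset.sum_mul]
  refine Finset.sum_congr rfl fun i _ => ?_
  ring

theorem val_can_one (h : Q C →ₐ[k] D) : val C h (1 : WithConv (B →ₐ[k] D)).ofConv (can C) = 1 := by
  rw [val_can]
  have h1 := mk_eq_sum C (1 : R k B)
  have h2 := congrArg h h1
  rw [map_one, map_one, map_sum] at h2
  rw [h2]
  refine Finset.sum_congr rfl fun i _ => ?_
  rw [map_smul, Algebra.smul_def, mul_comm]
  rfl

end can

section unit

variable {B : Type u} [CommRing B] [HopfAlgebra k B] [Coalgebra.IsCocomm k B]

theorem isUnit_can (C : FC k B) : IsUnit (can C) := by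
  let f : B →ₐ[k] Q C ⊗[k] B := Algebra.TensorProduct.includeRight
  let h : Q C →ₐ[k] Q C ⊗[k] B := Algebra.TensorProduct.includeLeft
  have h1 : val C h f (can C) = can C := by
    rw [val_can, can]
    refine Finset.sum_congr rfl fun i _ => ?_
    change (qm C (ds C i) ⊗ₜ[k] (1 : B)) * ((1 : Q C) ⊗ₜ[k] ((bs C i : C.C) : B)) = _
    rw [Algebra.TensorProduct.tmul_mul_tmul, mul_one, one_mul]
  have h2 := val_can_mul C h (f.comp (HopfAlgebra.antipodeAlgHom k B)) f
  rw [Groth.Agent.Books.AffBridge2.convAntipode_mul, val_can_one, h1] at h2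
  exact IsUnit.of_mul_eq_one_right _ h2.symm

end unit

/-! ### Unipotent bialgebras -/

section unip

theorem ap_mul_cact (F G : R k B) (b : B) : ap (G * F) b = ap G (ComodDual.cact (ap F) b) := by
  rw [ap_mul, ComodSocle.cact_regular]
  generalize CoalgebraStruct.comul (R := k) b = z
  induction z with
  | zero => simp
  | add x y hx hy => simp only [map_add, hx, hy]
  | tmul x y => simp [mul_comm]

theorem pow_apply_eq_zero {F : R k B} (hF : ap F 1 = 0) (n : ℕ) : ∀ b ∈ ComodSocle.soc k B B n, ap (F ^ n) b = 0 := by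
  induction n with
  | zero =>
    intro b hb
    rw [ComodSocle.soc_zero, Submodule.mem_bot] at hb
    rw [hb, map_zero]
  | succ n ih =>
    intro b hb
    rw [pow_succ, ap_mul_cact]
    exact ih _ (ComodSocle.mem_soc_succ.1 hb _ hF)

theorem isNilpotent_qm (hB : HopfRep.IsUnipotent k B) (C : FC k B) {F : R k B} (hF : ap F 1 = 0) :
    IsNilpotent (qm C F) := by
  rw [ComodSocle.isUnipotent_iff] at hB
  choose N hN using hB
  refine ⟨Finset.univ.sup (fun i => N ((bs C i : C.C) : B)), ?_⟩
  rw [← map_pow, mk_eq_sum]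
  refine Finset.sum_eq_zero fun i _ => ?_
  have hle := Finset.le_sup (f := fun i => N ((bs C i : C.C) : B)) (Finset.mem_univ i)
  rw [pow_apply_eq_zero hF _ _ (ComodSocle.soc_mono hle (hN _)), zero_smul]

/-- The augmentation of the quotient. -/
theorem sub_mem (C : FC k B) (F : R k B) : qm C F = algebraMap k (Q C) (ap F 1) + qm C (F - algebraMap k _ (ap F 1)) := by
  rw [map_sub, AlgHom.commutes]
  ring

theorem ap_sub_algebraMap (F : R k B) : ap (F - algebraMap k _ (ap F 1)) 1 = 0 := by
  rw [map_sub, LinearMap.sub_apply]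
  have : ap (algebraMap k (R k B) (ap F 1)) (1 : B) = ap F 1 := by
    rw [Algebra.algebraMap_eq_smul_one, map_smul, LinearMap.smul_apply, ap_one, Bialgebra.counit_one, smul_eq_mul, mul_one]
  rw [this, sub_self]

instance nontrivial_Q (C : FC k B) : Nontrivial (Q C) := by
  refine ⟨⟨1, 0, fun h => ?_⟩⟩
  have h1 := congrArg (evQ C ⟨1, C.one⟩) h
  rw [← map_one (qm C), evQ_qm, map_zero, ap_one, Bialgebra.counit_one] at h1
  exact one_ne_zero h1

theorem subsingleton_spec (hB : HopfRep.IsUnipotent k B) (C : FC k B) : Subsingleton (PrimeSpectrum (Q C)) := by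
  have key : ∀ p : PrimeSpectrum (Q C), ∀ F : R k B, qm C F ∈ p.asIdeal ↔ ap F 1 = 0 := by
    intro p F
    have h1 : qm C (F - algebraMap k _ (ap F 1)) ∈ p.asIdeal := by
      obtain ⟨n, hn⟩ := isNilpotent_qm hB C (ap_sub_algebraMap F)
      exact p.2.mem_of_pow_mem n (by rw [hn]; exact zero_mem _)
    constructor
    · intro h
      rw [sub_mem, Ideal.add_mem_iff_left _ h1] at h
      by_contra h2
      exact p.2.ne_top (Ideal.eq_top_of_isUnit_mem _ h ((IsUnit.mk0 _ h2).map (algebraMap k (Q C))))
    · intro h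
      rw [sub_mem, h, map_zero, zero_add]
      rw [h] at h1
      exact h1
  refine ⟨fun p q => ?_⟩
  ext x
  obtain ⟨F, rfl⟩ := qm_surjective C x
  rw [key, key]

end unip

end K191.DualRing
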