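import Groth.Agent.GmDual.K191.DualRing
import Groth.Agent.GmDual.K778.CharDict
import Groth.Agent.GaDual.K771.HomEv
import Groth.Agent.Sga3B.Hens.Dict
import Groth.Agent.Sga3B.AffTest

/-!
# Sections of the dual sheaf of an affine group from multiplicative units
-/

set_option autoImplicit false
universe u
open CategoryTheory CategoryTheory.Limits MonoidalCategory CartesianMonoidalCategory MonObj GrpObj AlgebraicGeometry
open TensorProduct Opposite WithConv
open Groth.Agent.Books.AffBridge Groth.Agent.Books.AffBridge2 Groth.Agent.Sga3B.Hens.Dict Groth.Agent.Sga3B.AffTest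
open K778.CharDict Groth.Agent.Etdl.H432.Sec

noncomputable section

namespace K191.DualSec

variable {k : Type u} [Field k]

section fam

variable {B P : Type u} [CommRing B] [CommRing P] [Algebra k P]

section alg

variable [Algebra k B]

/-- The morphism to `𝔾_m` attached to a unit of `P ⊗ B`. -/
def fam (g : (P ⊗[k] B)ˣ) : SpecOver k B ⊗ SpecOver k P ⟶ Red.Gm (Bs k) := inv (cmp k B P) ≫ gmE.symm g

theorem cmp_fam (g : (P ⊗[k] B)ˣ) : cmp k B P ≫ fam g = gmE.symm g := by
  rw [fam, IsIso.hom_inv_id_assoc]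

theorem lift_fam (g : (P ⊗[k] B)ˣ) {D : Type u} [CommRing D] [Algebra k D] (f : B →ₐ[k] D) (h : P →ₐ[k] D) :
    (gmE (lift (specMap k f) (specMap k h) ≫ fam g) : D) = li h f g := by
  rw [lift_specMap, Category.assoc, cmp_fam, gmE_nat, MulEquiv.apply_symm_apply]

/-- unit of a morphism -/
def uf (γ : SpecOver k B ⊗ SpecOver k P ⟶ Red.Gm (Bs k)) : (P ⊗[k] B)ˣ := gmE (cmp k B P ≫ γ)

@[simp] theorem uf_fam (g : (P ⊗[k] B)ˣ) : uf (fam g) = g := by
  rw [uf, cmp_fam, MulEquiv.apply_symm_apply]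

theorem cmp_whisker {P' : Type u} [CommRing P'] [Algebra k P'] (α : P →ₐ[k] P') :
    cmp k B P' ≫ (SpecOver k B ◁ specMap k α) =
      specMap k (Algebra.TensorProduct.map α (AlgHom.id k B)) ≫ cmp k B P := by
  have h : Algebra.TensorProduct.map α (AlgHom.id k B) =
      li (Algebra.TensorProduct.includeLeft.comp α) Algebra.TensorProduct.includeRight := by
    ext c <;> simp [li]
  rw [h, ← lift_specMap, specMap_comp, Groth.Agent.Sga3B.Hens.Dict.cmp, lift_whiskerLeft]

theorem uf_whisker {P' : Type u} [CommRing P'] [Algebra k P'] (α : P →ₐ[k] P')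
    (γ : SpecOver k B ⊗ SpecOver k P ⟶ Red.Gm (Bs k)) :
    (uf ((SpecOver k B ◁ specMap k α) ≫ γ) : P' ⊗[k] B) =
      Algebra.TensorProduct.map α (AlgHom.id k B) (uf γ : P ⊗[k] B) := by
  rw [uf, uf, ← Category.assoc, cmp_whisker, Category.assoc, gmE_nat]

theorem cmp_whiskerRight {A : Type u} [CommRing A] [Algebra k A] (φ : B →ₐ[k] A) :
    cmp k A P ≫ (specMap k φ ▷ SpecOver k P) =
      specMap k (Algebra.TensorProduct.map (AlgHom.id k P) φ) ≫ cmp k B P := by
  have h : Algebra.TensorProduct.map (AlgHom.id k P) φ =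
      li Algebra.TensorProduct.includeLeft (Algebra.TensorProduct.includeRight.comp φ) := by
    ext c <;> simp [li]
  rw [h, ← lift_specMap, specMap_comp, Groth.Agent.Sga3B.Hens.Dict.cmp, lift_whiskerRight]

theorem uf_whiskerRight {A : Type u} [CommRing A] [Algebra k A] (φ : B →ₐ[k] A)
    (γ : SpecOver k B ⊗ SpecOver k P ⟶ Red.Gm (Bs k)) :
    (uf ((specMap k φ ▷ SpecOver k P) ≫ γ) : P ⊗[k] A) =
      Algebra.TensorProduct.map (AlgHom.id k P) φ (uf γ : P ⊗[k] B) := by
  rw [uf, uf, ← Category.assoc, cmp_whiskerRight, Category.assoc, gmE_nat]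

theorem uf_injective : Function.Injective (fun γ : SpecOver k B ⊗ SpecOver k P ⟶ Red.Gm (Bs k) => (uf γ : P ⊗[k] B)) := by
  intro γ γ' h
  have h1 := gmE_ext h
  rwa [cancel_epi] at h1

theorem fam_whisker {P' : Type u} [CommRing P'] [Algebra k P'] (α : P →ₐ[k] P') (g : (P ⊗[k] B)ˣ)
    (g' : (P' ⊗[k] B)ˣ) (hg : (g' : P' ⊗[k] B) = Algebra.TensorProduct.map α (AlgHom.id k B) g) :
    (SpecOver k B ◁ specMap k α) ≫ fam g = fam g' := by
  apply uf_injective
  refine (uf_whisker α (fam g)).trans ?_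
  rw [uf_fam]
  change _ = ((uf (fam g') : (P' ⊗[k] B)ˣ) : P' ⊗[k] B)
  rw [uf_fam, hg]

end alg

variable [HopfAlgebra k B]

/-- Multiplicative units. -/
def IsMul (g : P ⊗[k] B) : Prop :=
  ∀ (D : Type u) [CommRing D] [Algebra k D] (h : P →ₐ[k] D) (f f' : B →ₐ[k] D),
    li h (toConv f * toConv f').ofConv g = li h f g * li h f' g

theorem fam_mul_affine {g : (P ⊗[k] B)ˣ} (hg : IsMul (g : P ⊗[k] B)) {D : Type u} [CommRing D] [Algebra k D]
    (x y : SpecOver k D ⟶ SpecOver k B) (h : SpecOver k D ⟶ SpecOver k P) :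
    lift (x * y) h ≫ fam g = (lift x h ≫ fam g) * (lift y h ≫ fam g) := by
  obtain ⟨f, rfl⟩ := (specEquiv k).surjective x
  obtain ⟨f', rfl⟩ := (specEquiv k).surjective y
  obtain ⟨h, rfl⟩ := (specEquiv k).surjective h
  change lift (specMap k (toConv f).ofConv * specMap k (toConv f').ofConv) (specMap k h) ≫ fam g =
    (lift (specMap k f) (specMap k h) ≫ fam g) * (lift (specMap k f') (specMap k h) ≫ fam g)
  rw [← specMap_mul]
  apply gmE_ext
  rw [map_mul, Units.val_mul, lift_fam, lift_fam, lift_fam]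
  exact hg D h f f'

theorem fam_mul {g : (P ⊗[k] B)ˣ} (hg : IsMul (g : P ⊗[k] B)) {W : Over (Bs k)}
    (x y : W ⟶ SpecOver k B) (h : W ⟶ SpecOver k P) :
    lift (x * y) h ≫ fam g = (lift x h ≫ fam g) * (lift y h ≫ fam g) := by
  have : IsAffine ((SpecOver k B ⊗ SpecOver k B) ⊗ SpecOver k P).left := by
    have h1 : IsAffine (SpecOver k B ⊗ SpecOver k B).left := by
      show IsAffine (pullback (SpecOver k B).hom (SpecOver k B).hom)
      infer_instance
    show IsAffine (pullback (SpecOver k B ⊗ SpecOver k B).hom (SpecOver k P).hom)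
    infer_instance
  have key : lift ((fst (SpecOver k B ⊗ SpecOver k B) (SpecOver k P) ≫ fst _ _) *
      (fst (SpecOver k B ⊗ SpecOver k B) (SpecOver k P) ≫ snd _ _)) (snd _ _) ≫ fam g =
      (lift (fst (SpecOver k B ⊗ SpecOver k B) (SpecOver k P) ≫ fst _ _) (snd _ _) ≫ fam g) *
        (lift (fst (SpecOver k B ⊗ SpecOver k B) (SpecOver k P) ≫ snd _ _) (snd _ _) ≫ fam g) := by
    apply hom_ext_pts
    intro D _ _ z
    rw [MonObj.comp_mul]
    simp only [← Category.assoc, comp_lift, MonObj.comp_mul]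
    exact fam_mul_affine hg _ _ _
  have h2 := congrArg (fun q => lift (lift x y) h ≫ q) key
  simp only [← Category.assoc, comp_lift, MonObj.comp_mul, lift_fst, lift_snd] at h2
  exact h2

end fam

/-! ### Sections of the dual sheaf -/

section sec

open K771.HomEv

variable {G : Over (Bs k)} [GrpObj G] [IsCommMonObj G]

/-- The sheaf of points. -/
abbrev PG (G : Over (Bs k)) [GrpObj G] [IsCommMonObj G] : EtFppf.AbF (Bs k) := CGrpSh.pts Scheme.fppfPrecoverage G

/-- The sheaf `𝔾_m`. -/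
abbrev GMS (k : Type u) [Field k] : EtFppf.AbF (Bs k) := CGrpSh2.Gm Scheme.fppfPrecoverage (Bs k)

/-- the point of a section -/
def pt {W : Over (Bs k)} (s : Γs (PG G) W) : W ⟶ G := s.down.toMul

/-- the section of a point -/
def spt {W : Over (Bs k)} (x : W ⟶ G) : Γs (PG G) W := ULift.up (Additive.ofMul x)

/-- the point of a section of `𝔾_m` -/
def mpt {W : Over (Bs k)} (s : Γs (GMS k) W) : W ⟶ Red.Gm (Bs k) := s.down.toMul

/-- the section of a point of `𝔾_m` -/
def smpt {W : Over (Bs k)} (x : W ⟶ Red.Gm (Bs k)) : Γs (GMS k) W := ULift.up (Additive.ofMul x)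

variable {B P : Type u} [CommRing B] [HopfAlgebra k B] [CommRing P] [Algebra k P]

/-- The section of the dual sheaf of `G` given by a homomorphism `u : G ⟶ Spec B` and a multiplicative unit. -/
def sec (u : G ⟶ SpecOver k B) [IsMonHom u] (g : (P ⊗[k] B)ˣ) (hg : IsMul (g : P ⊗[k] B)) :
    Γs (hom (PG G) (GMS k)) (SpecOver k P) :=
  K771.HomEv.mk (fun W h => AddMonoidHom.mk' (fun x => smpt (lift (pt x ≫ u) h ≫ fam g)) (fun x y => by
      apply ULift.ext
      apply Additive.toMul.injective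
      change lift ((pt x * pt y) ≫ u) h ≫ fam g = (lift (pt x ≫ u) h ≫ fam g) * (lift (pt y ≫ u) h ≫ fam g)
      rw [← fam_mul hg, MonObj.mul_comp]))
    (fun W W' h t x => by
      apply ULift.ext
      apply Additive.toMul.injective
      change t ≫ lift (pt x ≫ u) h ≫ fam g = lift ((t ≫ pt x) ≫ u) (t ≫ h) ≫ fam g
      rw [← Category.assoc, comp_lift, Category.assoc])

theorem mpt_ev_sec (u : G ⟶ SpecOver k B) [IsMonHom u] (g : (P ⊗[k] B)ˣ) (hg : IsMul (g : P ⊗[k] B))
    {W : Over (Bs k)} (h : W ⟶ SpecOver k P) (x : Γs (PG G) W) :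
    mpt (ev (sec u g hg) h x) = lift (pt x ≫ u) h ≫ fam g := rfl

theorem r_sec (u : G ⟶ SpecOver k B) [IsMonHom u] (g : (P ⊗[k] B)ˣ) (hg : IsMul (g : P ⊗[k] B))
    {P' : Type u} [CommRing P'] [Algebra k P'] (α : P →ₐ[k] P') (g' : (P' ⊗[k] B)ˣ) (hg' : IsMul (g' : P' ⊗[k] B))
    (e : (g' : P' ⊗[k] B) = Algebra.TensorProduct.map α (AlgHom.id k B) g) :
    r (hom (PG G) (GMS k)) (specMap k α) (sec u g hg) = sec u g' hg' := by
  apply ev_ext
  intro W h x
  rw [ev_r]
  apply ULift.ext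
  apply Additive.toMul.injective
  change lift (pt x ≫ u) (h ≫ specMap k α) ≫ fam g = lift (pt x ≫ u) h ≫ fam g'
  rw [← fam_whisker α g g' e, ← Category.assoc, lift_whiskerLeft]

/-- The universal value of a section of the dual sheaf. -/
def uv (s : Γs (hom (PG G) (GMS k)) (SpecOver k P)) : G ⊗ SpecOver k P ⟶ Red.Gm (Bs k) :=
  mpt (ev s (snd _ _) (spt (fst _ _)))

variable {A : Type u} [CommRing A] [Algebra k A]

/-- The unit attached to a section. -/
def un (i : SpecOver k A ⟶ G) (s : Γs (hom (PG G) (GMS k)) (SpecOver k P)) : (P ⊗[k] A)ˣ :=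
  uf ((i ▷ SpecOver k P) ≫ uv s)

theorem un_sec (i : SpecOver k A ⟶ G) (u : G ⟶ SpecOver k B) [IsMonHom u] (φ : B →ₐ[k] A) (hφ : i ≫ u = specMap k φ)
    (g : (P ⊗[k] B)ˣ) (hg : IsMul (g : P ⊗[k] B)) :
    (un i (sec u g hg) : P ⊗[k] A) = Algebra.TensorProduct.map (AlgHom.id k P) φ (g : P ⊗[k] B) := by
  have h1 : (i ▷ SpecOver k P) ≫ uv (sec u g hg) = (specMap k φ ▷ SpecOver k P) ≫ fam g := by
    change (i ▷ SpecOver k P) ≫ lift (fst _ _ ≫ u) (snd _ _) ≫ fam g = _
    rw [← hφ, ← Category.assoc, comp_whiskerRight]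
    congr 1
  rw [un, h1, uf_whiskerRight, uf_fam]

theorem un_r (i : SpecOver k A ⟶ G) {P' : Type u} [CommRing P'] [Algebra k P'] (α : P →ₐ[k] P')
    (s : Γs (hom (PG G) (GMS k)) (SpecOver k P)) :
    (un i (r (hom (PG G) (GMS k)) (specMap k α) s) : P' ⊗[k] A) =
      Algebra.TensorProduct.map α (AlgHom.id k A) (un i s : P ⊗[k] A) := by
  have h1 : (i ▷ SpecOver k P') ≫ uv (r (hom (PG G) (GMS k)) (specMap k α) s) =
      (SpecOver k A ◁ specMap k α) ≫ (i ▷ SpecOver k P) ≫ uv s := by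
    have h2 : uv (r (hom (PG G) (GMS k)) (specMap k α) s) = (G ◁ specMap k α) ≫ uv s := by
      have h3 := congrArg mpt (ev_r' s (snd G (SpecOver k P)) (G ◁ specMap k α) (spt (fst _ _)))
      change (G ◁ specMap k α) ≫ uv s = _ at h3
      rw [h3]
      change mpt (ev s (snd _ _ ≫ specMap k α) (spt (fst _ _))) = mpt (ev s ((G ◁ specMap k α) ≫ snd _ _) (spt ((G ◁ specMap k α) ≫ fst _ _)))
      rw [whiskerLeft_snd, whiskerLeft_fst]
    rw [h2, whisker_exchange_assoc]
  rw [un, h1, uf_whisker]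
  rfl

end sec

end K191.DualSec
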