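import Groth.Agent.GmDual.K191.DualSec

/-!
# Representable dual sheaf implies finite unipotent quotients

Let `G = Spec A` be an affine commutative group over a field whose fppf dual sheaf is representable by a scheme, and let
`B → A` be an injective homomorphism from a unipotent cocommutative Hopf algebra.  Then `B` is finite dimensional.
-/

set_option autoImplicit false
universe u
open CategoryTheory CategoryTheory.Limits MonoidalCategory CartesianMonoidalCategory MonObj GrpObj AlgebraicGeometry
open TensorProduct Opposite WithConv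
open Groth.Agent.Books.AffBridge Groth.Agent.Books.AffBridge2 Groth.Agent.Sga3B.Hens.Dict Groth.Agent.Sga3B.AffTest
open K778.CharDict Groth.Agent.Etdl.H432.Sec K191.DualRing K191.DualSec

noncomputable section

namespace K191.UnipFin

variable {k : Type u} [Field k] {B : Type u} [CommRing B] [HopfAlgebra k B] [Coalgebra.IsCocomm k B]

/-! ### Families of points with one-point sources -/

/-- Compatible points of a `k`-scheme with values in the finite quotients of the dual ring come from a point with values in
the dual ring. -/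
theorem exists_point (hB : HopfRep.IsUnipotent k B) (D : Over (Bs k)) (d : ∀ C : FC k B, SpecOver k (Q C) ⟶ D)
    (hd : ∀ (C E : FC k B) (h : C.C ≤ E.C), specMap k (tr h) ≫ d E = d C) :
    ∃ x : SpecOver k (R k B) ⟶ D, ∀ C, specMap k (qm C) ≫ x = d C := by
  -- the common image point
  have hsub : ∀ C : FC k B, Subsingleton (SpecOver k (Q C)).left := fun C => subsingleton_spec hB C
  have hne : ∀ C : FC k B, Nonempty (SpecOver k (Q C)).left := fun C =>
    (inferInstance : Nonempty (PrimeSpectrum (Q C)))
  obtain ⟨p0⟩ := hne (FC.of k 0)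
  let e0 : D.left := (d (FC.of k 0)).left p0
  have himg : ∀ (C : FC k B) (p : (SpecOver k (Q C)).left), (d C).left p = e0 := by
    intro C p
    obtain ⟨E, h1, h2⟩ := exists_ge C (FC.of k 0)
    have h3 : (d C).left p = (d E).left ((specMap k (tr h1)).left p) := by
      rw [← hd C E h1]
      rfl
    have h4 : e0 = (d E).left ((specMap k (tr h2)).left p0) := by
      change (d (FC.of k 0)).left p0 = _
      rw [← hd _ E h2]
      rfl
    rw [h3, h4]
    have := hsub E
    congr 1
    exact Subsingleton.elim _ _
  obtain ⟨W, hWa, heW⟩ : ∃ W : D.left.Opens, IsAffineOpen W ∧ e0 ∈ W := by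
    obtain ⟨W, hW, heW, -⟩ := TopologicalSpace.Opens.isBasis_iff_nbhd.1 D.left.isBasis_affineOpens
      (show e0 ∈ (⊤ : D.left.Opens) from trivial)
    exact ⟨W, hW, heW⟩
  let W' : Over (Bs k) := Over.mk (W.ι ≫ D.hom)
  let ι' : W' ⟶ D := Over.homMk W.ι rfl
  have : IsAffine W'.left := hWa
  obtain ⟨Γ, _, _, ⟨e⟩⟩ := exists_iso_sp W'
  have hmono : Mono ι' := by
    have : Mono ((Over.forget _).map ι') := (inferInstance : Mono W.ι)
    exact (Over.forget _).mono_of_mono_map this
  have hfac : ∀ C, ∃ f : SpecOver k (Q C) ⟶ W', f ≫ ι' = d C := by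
    intro C
    have hr : Set.range (d C).left ⊆ Set.range W.ι := by
      rintro _ ⟨p, rfl⟩
      rw [himg C p, Scheme.Opens.range_ι]
      exact heW
    refine ⟨Over.homMk (IsOpenImmersion.lift W.ι (d C).left hr) ?_, ?_⟩
    · change IsOpenImmersion.lift W.ι (d C).left hr ≫ W.ι ≫ D.hom = _
      rw [IsOpenImmersion.lift_fac_assoc, Over.w]
    · ext1
      exact IsOpenImmersion.lift_fac _ _ _
  choose f hf using hfac
  have hψ : ∀ C, ∃ ψ : Γ →ₐ[k] Q C, specMap k ψ = f C ≫ e.inv := fun C => (specEquiv k).surjective _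
  choose ψ hψ using hψ
  obtain ⟨Ψ, hΨ⟩ := exists_lift ψ (fun C E h x => by
    have h1 : specMap k ((tr h).comp (ψ E)) = specMap k (ψ C) := by
      rw [specMap_comp, hψ, hψ, ← cancel_mono e.hom, ← cancel_mono ι']
      simp only [Category.assoc, Iso.inv_hom_id, Category.comp_id]
      simp only [Iso.inv_hom_id_assoc, hf, hd]
    exact AlgHom.congr_fun (specMap_injective k h1) x)
  refine ⟨specMap k Ψ ≫ e.hom ≫ ι', fun C => ?_⟩
  have h2 : (qm C).comp Ψ = ψ C := AlgHom.ext fun x => hΨ C x
  rw [← Category.assoc, ← specMap_comp, h2, hψ]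
  simp only [Category.assoc, Iso.inv_hom_id_assoc, hf]

variable {G D : Over (Bs k)} [GrpObj G] [IsCommMonObj G] [GrpObj D] [IsCommMonObj D]

theorem isMul_can (C : FC k B) : IsMul (P := Q C) ((isUnit_can C).unit : Q C ⊗[k] B) :=
  fun _ _ _ h f f' => val_can_mul C h f f'

/-- If the dual sheaf is representable, unipotent quotients are finite. -/
theorem finite_of_rep {A : Type u} [CommRing A] [Algebra k A] (i : SpecOver k A ⟶ G) (u : G ⟶ SpecOver k B) [IsMonHom u]
    (φ : B →ₐ[k] A) (hφ : i ≫ u = specMap k φ) (hinj : Function.Injective φ) (hB : HopfRep.IsUnipotent k B)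
    (E : PG D ≅ K771.HomEv.hom (PG G) (GMS k)) : Module.Finite k B := by
  classical
  let s : ∀ C : FC k B, Γs (K771.HomEv.hom (PG G) (GMS k)) (SpecOver k (Q C)) := fun C =>
    sec u (isUnit_can C).unit (isMul_can C)
  let d : ∀ C : FC k B, SpecOver k (Q C) ⟶ D := fun C => pt (m E.inv _ (s C))
  obtain ⟨x, hx⟩ := exists_point hB D d (fun C E' h => by
    change pt (r (PG D) (specMap k (tr h)) (m E.inv _ (s E'))) = _
    rw [← m_r]
    congr 2
    exact r_sec u _ _ (tr h) _ _ (map_tr_can h).symm)
  let sx : Γs (K771.HomEv.hom (PG G) (GMS k)) (SpecOver k (R k B)) := m E.hom _ (spt x)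
  have hsx : ∀ C, r (K771.HomEv.hom (PG G) (GMS k)) (specMap k (qm C)) sx = s C := by
    intro C
    rw [← m_r]
    have h1 : r (PG D) (specMap k (qm C)) (spt x) = m E.inv _ (s C) := by
      have h2 := hx C
      apply ULift.ext
      apply Additive.toMul.injective
      exact h2
    rw [h1, ← m_comp, Iso.inv_hom_id, m_id]
  let w : R k B ⊗[k] A := (un i sx : (R k B ⊗[k] A)ˣ)
  have hw : ∀ C, Algebra.TensorProduct.map (qm C) (AlgHom.id k A) w =
      Algebra.TensorProduct.map (AlgHom.id k (Q C)) φ (can C) := by
    intro C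
    rw [← un_r, hsx, un_sec i u φ hφ]
    rfl
  obtain ⟨S, hS⟩ := TensorProduct.exists_finset w
  -- the image of `B` is contained in the span of finitely many elements
  have hspan : LinearMap.range φ.toLinearMap ≤ Submodule.span k ((S.image Prod.snd : Finset A) : Set A) := by
    rintro _ ⟨b, rfl⟩
    have h1 := evQ_can (FC.of k b) φ ⟨b, FC.mem_of b⟩
    rw [← hw, hS] at h1
    change φ b ∈ _
    rw [← h1, map_sum, map_sum, map_sum]
    refine Submodule.sum_mem _ fun p hp => ?_
    rw [Algebra.TensorProduct.map_tmul, LinearMap.rTensor_tmul, TensorProduct.lid_tmul]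
    exact Submodule.smul_mem _ _ (Submodule.subset_span (Finset.mem_coe.2 (Finset.mem_image_of_mem _ hp)))
  have hfin : Module.Finite k (LinearMap.range φ.toLinearMap) := by
    have := FiniteDimensional.span_of_finite k (Finset.finite_toSet (S.image Prod.snd))
    exact Submodule.finiteDimensional_of_le hspan
  exact Module.Finite.equiv (LinearEquiv.ofInjective φ.toLinearMap hinj).symm

end K191.UnipFin
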